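/-
Project U4: the minimal vectors of the Leech lattice fixed by two explicit elements of order three.
-/
import Cfsg.Agent.Spor.LeechXi

set_option autoImplicit false

namespace CL.U4.CO1all

open Cfsg CL.Spor CL.Spor.Leech Finset

/-- the nine vectors -/
def eN (w i : ℕ) : ℤ := (([[1, 3, -1, -1, 1, -1, -1, -1, 1, -1, 1, -1, 1, -1, -1, -1, -1, -1, -1, -1, 1, -1, 1, 1],
    [0, -4, 0, 0, 0, 0, 0, 0, 0, 0, 0, 0, 0, 0, 0, 0, 0, 0, 0, 0, 0, 0, 0, -4],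
    [-1, 1, 1, 1, -1, 1, 1, 1, -1, 1, -1, 1, -1, 1, 1, 1, 1, 1, 1, 1, -1, 1, -1, 3],
    [-3, -1, -1, 1, -1, 1, 1, -1, 1, -1, -1, 1, -1, -1, 1, 1, 1, -1, 1, 1, -1, 1, -1, -1],
    [4, 0, 0, 0, 0, 0, 0, 0, 0, 0, 0, 0, 0, 0, 0, 0, 0, 0, 0, 0, 0, 0, 0, 4],
    [-1, 1, 1, -1, 1, -1, -1, 1, -1, 1, 1, -1, 1, 1, -1, -1, -1, 1, -1, -1, 1, -1, 1, -3],
    [2, -2, 2, 0, 0, 0, 0, 2, -2, 2, 0, 0, 0, 2, 0, 0, 0, 2, 0, 0, 0, 0, 0, 0],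
    [-4, 4, 0, 0, 0, 0, 0, 0, 0, 0, 0, 0, 0, 0, 0, 0, 0, 0, 0, 0, 0, 0, 0, 0],
    [2, -2, -2, 0, 0, 0, 0, -2, 2, -2, 0, 0, 0, -2, 0, 0, 0, -2, 0, 0, 0, 0, 0, 0]] : List (List ℤ)).getD w []).getD i 0

/-- lattice vectors dual to the vectors number `4, 7, 6, 0` -/
def vN (t i : ℕ) : ℤ := (([[0, 0, 0, 0, 2, 0, 0, 0, 0, 0, 2, 2, 0, 0, 2, 0, -2, 0, 0, 2, 0, 0, -2, 2],
    [0, 2, 0, 0, -2, 0, -2, 0, 0, 2, 0, 0, 0, 0, 2, 0, -2, 0, 2, 0, 0, 0, -2, 0],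
    [0, 0, 4, -4, 0, 0, 0, 0, 0, 0, 0, 0, 0, 0, 0, 0, 0, 0, 0, 0, 0, 0, 0, 0],
    [0, 0, 0, 0, 4, -4, 0, 0, 0, 0, 0, 0, 0, 0, 0, 0, 0, 0, 0, 0, 0, 0, 0, 0]] : List (List ℤ)).getD t []).getD i 0

def cN (i k : ℕ) : ℤ := (([[-18, 21, -9, 19, -3, 3, 6, -6, 15, 10, 10, 3, 18, 3, 4, -2, 0, 2, 0, 0],
    [-6, 17, 5, 1, -15, -7, 0, -6, 13, -2, -8, 5, 6, 1, -8, -8, 6, 2, 36, -12],
    [6, -17, -3, -1, -1, -1, -4, 2, -7, 4, -2, -3, -6, 1, 0, -4, 2, -6, -12, 12],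
    [6, -17, -3, -1, -1, -1, -4, 2, -7, 4, -2, -3, -6, 1, 0, -4, 2, -6, -12, 12],
    [0, 1, 1, -3, -3, 1, 0, 0, -1, 0, 0, 1, 0, -1, 0, 0, 0, 0, 0, 0],
    [0, 1, 1, -3, -3, 1, 0, 0, -1, 0, 0, 1, 0, -1, 0, 0, 0, 0, 0, 0],
    [18, -11, 3, -3, 3, -7, 2, 2, -7, 0, 0, -3, -6, 1, 0, 0, 0, 0, -24, 0],
    [-6, -17, -3, -1, -1, -1, -16, 2, -7, 4, -2, -3, -6, 1, 0, -4, 2, -6, 0, 24],
    [0, 17, 3, -1, 3, 1, 10, -8, 7, -4, 2, 3, 6, -1, 2, 8, -6, 10, 0, -24],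
    [0, -11, -3, -1, 3, -1, -4, 2, -13, 2, 2, -3, -6, 1, 2, -4, 0, -2, -12, 12],
    [0, 3, -1, 3, -3, 1, 2, -4, 3, -6, 0, -1, 0, -1, 0, 0, 0, 0, 0, 0],
    [0, 1, -1, -3, 3, 3, -2, 4, -1, 0, -6, -1, 0, 3, 0, 0, 0, 0, 0, 0],
    [-6, 17, -3, -1, -1, 1, 4, -2, 7, -2, 4, -3, 6, -1, 0, 2, -4, 6, 12, -12],
    [6, -11, -3, -1, 1, -1, -4, 2, -7, 6, 0, -3, -12, 1, -2, -4, 4, -4, -12, 12],
    [24, -11, 3, 1, 3, -1, 2, 2, -7, 4, -2, -3, -6, -5, -2, -2, 0, -4, -24, 0],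
    [0, 3, -3, -3, 3, 3, 0, 0, 3, 0, 0, 3, 6, 3, -6, 0, 0, 0, 0, 0],
    [0, -1, 1, -3, 3, 3, -4, 2, 1, 0, 0, 1, 0, 3, 0, -6, 0, 0, 0, 0],
    [-6, -11, -3, -3, 1, -1, -4, -4, -1, 4, -2, -3, 0, 1, 2, -6, 4, -8, 0, 24],
    [18, -5, 3, -1, 3, 5, 2, 2, -1, 2, 2, -3, 0, 7, 2, 2, 0, -2, -24, 0],
    [0, -23, 9, -3, 3, -1, -4, 2, -13, 0, 0, -9, -12, 1, 0, 0, 0, -6, -12, 12],
    [0, 3, 1, 3, -3, -1, 4, -2, 3, 0, 0, 1, 0, 1, 0, 0, -6, 0, 0, 0],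
    [0, 1, -3, -3, 3, -1, -4, 2, -1, 0, 0, 3, 0, 1, 0, 0, 0, -6, 0, 0],
    [18, 1, 3, 9, -9, -1, 2, -4, -1, 6, -6, -3, 0, 1, -6, -6, 6, -6, 0, 0],
    [-6, 29, -7, 11, -9, -1, 0, -6, 19, 8, 2, 11, 18, 7, -4, -10, 6, 4, 36, -12]] : List (List ℤ)).getD i []).getD k 0

def iN (k : ℕ) : ℕ := ([0, 2, 3, 4, 5, 6, 7, 8, 9, 10, 11, 12, 13, 14, 15, 16, 20, 21, 0, 2] : List ℕ).getD k 0

/-- the rows of `m - 8` that are used -/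
def row (mX mZ : ℕ → ℕ → ℤ) (k j : ℕ) : ℤ := cond (Nat.blt k 18) (mX (iN k) j) (mZ (iN k) j) - cond (Nat.beq (iN k) j) 8 0

/-- the certificate; check it by `decide +kernel` -/
def check (mX mZ : ℕ → ℕ → ℤ) : Bool := allBelow (fun i => allBelow (fun j => decide (cond (Nat.beq i j) 96 0 -
  12 * (eN 4 i * vN 0 j + eN 7 i * vN 1 j + eN 6 i * vN 2 j + eN 0 i * vN 3 j) =
    sumZ (fun k => Int.mul (cN i k) (row mX mZ k j)) 20)) 24) 24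

def cb (a b c d : ℤ) (i : ℕ) : ℤ := a * eN 4 i + b * eN 7 i + c * eN 6 i + d * eN 0 i

theorem fin : allBelow (fun a => allBelow (fun b => allBelow (fun c => allBelow (fun d =>
    !decide (sumZ (fun i => cb (a - 1) (b - 2) (c - 1) (d - 1) i ^ 2) 24 = 32) || !allBelow (fun w =>
      !allBelow (fun i => decide (cb (a - 1) (b - 2) (c - 1) (d - 1) i = eN w i)) 24 &&
      !allBelow (fun i => decide (cb (a - 1) (b - 2) (c - 1) (d - 1) i = -eN w i)) 24) 9) 3) 3) 5) 3 = true := by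
  decide +kernel

theorem norm (a b c d : ℤ) : sumZ (fun i => cb a b c d i ^ 2) 24 = 15 * d ^ 2 + 6 * (2 * c - d) ^ 2 +
    (4 * a - 4 * b + 2 * c + d) ^ 2 + (4 * b - 2 * c + 3 * d) ^ 2 + (4 * a + d) ^ 2 := by
  simp only [sumZ_eq, Finset.sum_range_succ, Finset.sum_range_zero, cb, eN, List.getD_cons_succ, List.getD_cons_zero]
  ring

theorem delta (x : ℕ → ℤ) (c : ℤ) {i : ℕ} (h : i < 24) : ∑ j ∈ range 24, cond (Nat.beq i j) c 0 * x j = c * x i := by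
  rw [Finset.sum_eq_single i (fun j _ e => by rw [Bool.eq_false_iff.2 (mt Nat.eq_of_beq_eq_true e.symm), cond_false, zero_mul])
    fun e => absurd (mem_range.2 h) e]
  simp

theorem all (mX mZ : ℕ → ℕ → ℤ) (chk : check mX mZ = true) (y : leechLattice) (hn : sqNorm (y : GolayPt → ℤ) = 32)
    (hX : (8 : ℤ) • (y : GolayPt → ℤ) = (matOf mX).mulVec y) (hZ : (8 : ℤ) • (y : GolayPt → ℤ) = (matOf mZ).mulVec y) :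
    ∃ w < 9, (y : GolayPt → ℤ) = vecOf (eN w) ∨ (y : GolayPt → ℤ) = -vecOf (eN w) := by
  obtain ⟨x, hx⟩ : ∃ x, (y : GolayPt → ℤ) = vecOf x :=
    ⟨fun i => y.1 (gPt i), funext fun p => congrArg y.1 ((gIdx_eq_iff (gIdx_lt p)).1 rfl)⟩
  have fx : ∀ {m : ℕ → ℕ → ℤ}, (8 : ℤ) • (y : GolayPt → ℤ) = (matOf m).mulVec y → ∀ i < 24,
      ∑ j ∈ range 24, (m i j - cond (Nat.beq i j) 8 0) * x j = 0 := fun {m} h i hi => by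
    have := congrFun h (gPt i)
    rw [hx, matOf_mulVec] at this
    simp only [Pi.smul_apply, vecOf, gIdx_gPt hi, mulN, sumZ_eq, smul_eq_mul] at this
    simp only [sub_mul, Finset.sum_sub_distrib, delta x 8 hi]
    exact sub_eq_zero.2 this.symm
  have hi : ∀ k < 20, iN k < 24 := by decide
  have r0 : ∀ k < 20, ∑ j ∈ range 24, row mX mZ k j * x j = 0 := fun k hk => by
    cases e : Nat.blt k 18
    · simpa only [row, e, cond_false] using fx hZ _ (hi k hk)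
    · simpa only [row, e, cond_true] using fx hX _ (hi k hk)
  have dv : ∀ t < 4, ∃ s, ∑ j ∈ range 24, vN t j * x j = 8 * s := fun t ht => by
    have m : allBelow (fun t => inL (vN t)) 4 = true := by decide +kernel
    have := eight_dvd_dot (vecOf_mem ((allBelow_iff _ _).1 m t ht)) y.2
    rwa [hx, dotInt, show ∑ p, vecOf (vN t) p * vecOf x p = _ from sum_gIdx fun j => vN t j * x j] at this
  obtain ⟨a, ha⟩ := dv 0 (by norm_num)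
  obtain ⟨b, hb⟩ := dv 1 (by norm_num)
  obtain ⟨c, hc⟩ := dv 2 (by norm_num)
  obtain ⟨d, hd⟩ := dv 3 (by norm_num)
  simp only [check, allBelow_iff, decide_eq_true_eq, sumZ_eq] at chk
  have key : ∀ i < 24, x i = cb a b c d i := fun i hi => by
    have e : ∑ j ∈ range 24, (cond (Nat.beq i j) 96 0 - 12 * (eN 4 i * vN 0 j + eN 7 i * vN 1 j + eN 6 i * vN 2 j +
        eN 0 i * vN 3 j)) * x j = 0 := by
      rw [Finset.sum_congr rfl fun j hj => by rw [chk i hi j (mem_range.1 hj), Finset.sum_mul], Finset.sum_comm]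
      refine Finset.sum_eq_zero fun k hk => ?_
      have := congrArg (cN i k * ·) (r0 k (mem_range.1 hk))
      simp only [Finset.mul_sum, mul_zero] at this
      rw [← this]
      exact Finset.sum_congr rfl fun j _ => mul_assoc _ _ _
    simp only [sub_mul, add_mul, mul_add, mul_assoc, Finset.sum_sub_distrib, Finset.sum_add_distrib, ← Finset.mul_sum,
      delta x _ hi, ha, hb, hc, hd] at e
    rw [cb]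
    linarith
  have hy : (y : GolayPt → ℤ) = vecOf (cb a b c d) := hx.trans (funext fun p => key _ (gIdx_lt p))
  rw [hy, sqNorm, show ∑ p, vecOf (cb a b c d) p ^ 2 = _ from sum_gIdx_sumZ fun j => cb a b c d j ^ 2] at hn
  have q := hn
  rw [norm] at q
  have s1 := sq_nonneg d
  have s2 := sq_nonneg (2 * c - d)
  have s3 := sq_nonneg (4 * a - 4 * b + 2 * c + d)
  have s4 := sq_nonneg (4 * b - 2 * c + 3 * d)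
  have s5 := sq_nonneg (4 * a + d)
  obtain ⟨d1, d2⟩ := abs_lt.1 (abs_lt_of_sq_lt_sq (show d ^ 2 < 2 ^ 2 by linarith) (by norm_num))
  obtain ⟨c1, c2⟩ := abs_lt.1 (abs_lt_of_sq_lt_sq (show (2 * c - d) ^ 2 < 3 ^ 2 by linarith) (by norm_num))
  obtain ⟨b1, b2⟩ := abs_lt.1 (abs_lt_of_sq_lt_sq (show (4 * b - 2 * c + 3 * d) ^ 2 < 6 ^ 2 by linarith) (by norm_num))
  obtain ⟨a1, a2⟩ := abs_lt.1 (abs_lt_of_sq_lt_sq (show (4 * a + d) ^ 2 < 6 ^ 2 by linarith) (by norm_num))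
  obtain ⟨a, rfl⟩ : ∃ n : ℕ, a = n - 1 := ⟨(a + 1).toNat, by omega⟩
  obtain ⟨b, rfl⟩ : ∃ n : ℕ, b = n - 2 := ⟨(b + 2).toNat, by omega⟩
  obtain ⟨c, rfl⟩ : ∃ n : ℕ, c = n - 1 := ⟨(c + 1).toNat, by omega⟩
  obtain ⟨d, rfl⟩ : ∃ n : ℕ, d = n - 1 := ⟨(d + 1).toNat, by omega⟩
  have f := fin
  simp only [allBelow_iff] at f
  replace f := f a (by omega) b (by omega) c (by omega) d (by omega)
  rw [decide_eq_true hn, Bool.not_true, Bool.false_or, Bool.not_eq_true', ← Bool.not_eq_true, allBelow_iff] at f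
  by_contra! n
  refine f fun w hw => ?_
  rw [Bool.and_eq_true, Bool.not_eq_true', Bool.not_eq_true', ← Bool.not_eq_true, ← Bool.not_eq_true, allBelow_iff,
    allBelow_iff]
  exact ⟨fun k => (n w hw).1 (hy.trans (funext fun p => of_decide_eq_true (k _ (gIdx_lt p)))),
    fun k => (n w hw).2 (hy.trans (funext fun p => of_decide_eq_true (k _ (gIdx_lt p))))⟩

/-- the matrices of `X` and `Z` in the data file -/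
def mX (i j : ℕ) : ℤ := (([[5, -3, -1, -1, 1, -1, 1, 1, -1, -1, 1, -1, 1, -1, 1, -1, -1, 1, 1, -1, 1, -1, 1, 3],
    [-3, 5, -1, -1, 1, -1, 1, 1, -1, -1, 1, -1, 1, -1, 1, -1, -1, 1, 1, -1, 1, -1, 1, 3],
    [1, 1, -1, -1, 1, 3, 1, 1, -1, 3, 1, 3, 1, 3, 1, -1, -1, 1, 1, -1, 1, 3, 1, -1],
    [1, 1, -1, -1, 1, 3, 1, 1, -1, -1, -3, -1, -3, -1, 1, -1, 3, 1, 1, 3, 1, -1, 1, -1],
    [1, 1, -1, -1, -3, -1, -3, 1, -1, 3, 1, -1, -3, -1, 1, -1, -1, -3, 1, -1, 1, -1, 1, -1],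
    [-1, -1, -3, -3, -1, -3, -1, -1, 1, 1, -1, 1, -1, 1, 3, 1, 1, 3, -1, 1, -1, 1, -1, 1],
    [-1, -1, 1, 1, 3, 1, -1, -1, 1, 1, 3, 1, -1, 1, 3, 1, 1, -1, 3, 1, -1, -3, -1, 1],
    [-1, -1, 1, 1, -1, 1, -1, -1, -3, 1, -1, 1, -1, 1, -1, 1, -3, 3, -1, 1, 3, -3, -1, 1],
    [1, 1, -1, -1, 1, -1, 1, -3, -1, -1, -3, 3, 1, -1, 1, -1, -1, -3, 1, -1, 1, -1, -3, -1],
    [1, 1, 3, -1, -3, -1, 1, 1, -1, -1, 1, -1, 1, 3, 1, -1, 3, 1, 1, -1, 1, -1, -3, -1],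
    [1, 1, -1, 3, 1, -1, -3, 1, 3, -1, -3, -1, 1, 3, 1, -1, -1, 1, 1, -1, 1, -1, 1, -1],
    [-1, -1, -3, 1, -1, 1, -1, -1, -3, 1, -1, -3, 3, 1, -1, 1, 1, -1, 3, 1, -1, 1, -1, 1],
    [-1, -1, 1, -3, 3, 1, -1, -1, 1, 1, -1, -3, -1, 1, -1, 1, 1, -1, -1, -3, 3, 1, -1, 1],
    [1, 1, 3, -1, 1, -1, 1, 1, -1, 3, -3, -1, 1, -1, 1, 3, -1, 1, 1, -1, -3, -1, 1, -1],
    [-1, -1, 1, 1, -1, -3, 3, -1, 1, 1, -1, 1, -1, 1, -1, 1, 1, -1, 3, 1, 3, 1, 3, 1],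
    [-1, -1, 1, 1, -1, 1, -1, -1, 1, 1, -1, 1, -1, -3, -1, -3, 1, 3, 3, -3, -1, 1, -1, 1],
    [-1, -1, 1, -3, -1, 1, -1, 3, 1, -3, -1, 1, -1, 1, -1, 1, -3, -1, 3, 1, -1, 1, -1, 1],
    [-1, -1, 1, 1, 3, -3, -1, 3, -3, 1, -1, 1, -1, 1, -1, -3, 1, -1, -1, 1, -1, 1, -1, 1],
    [-1, -1, 1, 1, -1, 1, 3, -1, 1, 1, -1, -3, -1, 1, 3, -3, -3, -1, -1, 1, -1, 1, -1, 1],
    [1, 1, -1, 3, 1, -1, 1, 1, -1, -1, 1, -1, -3, -1, 1, 3, -1, 1, 1, -1, 1, 3, -3, -1],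
    [1, 1, -1, -1, 1, -1, 1, -3, -1, -1, 1, -1, -3, 3, -3, -1, -1, 1, 1, -1, -3, -1, 1, -1],
    [-1, -1, -3, 1, -1, 1, 3, 3, 1, 1, -1, 1, -1, 1, -1, 1, 1, -1, -1, -3, -1, -3, -1, 1],
    [1, 1, -1, -1, 1, -1, 1, 1, 3, 3, 1, -1, 1, -1, -3, -1, -1, 1, 1, 3, 1, -1, -3, -1],
    [3, 3, 1, 1, -1, 1, -1, -1, 1, 1, -1, 1, -1, 1, -1, 1, 1, -1, -1, 1, -1, 1, -1, 5]] : List (List ℤ)).getD i []).getD j 0

def mZ (i j : ℕ) : ℤ := (([[5, -3, 1, -1, -1, -1, -1, -1, -1, -1, -1, -1, 1, -1, -1, -1, -1, 1, -1, 1, 1, -1, 1, 3],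
    [-3, 5, 1, -1, -1, -1, -1, -1, -1, -1, -1, -1, 1, -1, -1, -1, -1, 1, -1, 1, 1, -1, 1, 3],
    [-1, -1, -1, 1, 1, 1, 1, 1, -3, 1, 1, 1, -1, 1, 1, 1, -3, 3, 1, -1, 3, -3, -1, 1],
    [-1, -1, -1, -3, 1, 1, -3, 1, -3, 1, -3, 1, -1, -3, 1, 1, 1, -1, 1, -1, -1, 1, -1, 1],
    [1, 1, 1, -1, -1, 3, -1, -1, -1, -1, 3, -1, -3, -1, -1, -1, 3, 1, -1, -3, 1, -1, 1, -1],
    [-1, -1, -1, 1, -3, -3, 1, -3, -3, 1, 1, 1, -1, 1, 1, -3, 1, -1, 1, -1, -1, 1, -1, 1],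
    [1, 1, 1, 3, -1, -1, -1, -1, -1, -1, -1, -1, -3, -1, -1, 3, -1, 1, -1, 1, 1, 3, -3, -1],
    [1, 1, 1, -1, -1, 3, -1, -1, -1, 3, -1, 3, 1, 3, -1, -1, -1, 1, -1, 1, 1, 3, 1, -1],
    [1, 1, -3, 3, -1, 3, -1, -1, -1, -1, -1, -1, 1, -1, 3, -1, -1, -3, -1, 1, 1, -1, 1, -1],
    [1, 1, 1, -1, -1, -1, -1, 3, -1, -1, -1, -1, -3, 3, 3, -1, -1, 1, -1, 1, -3, -1, 1, -1],
    [1, 1, 1, 3, 3, -1, -1, -1, -1, -1, -1, 3, 1, -1, -1, -1, -1, 1, -1, -3, -3, -1, 1, -1],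
    [-1, -1, -1, 1, 1, 1, 1, -3, 1, 1, -3, -3, -1, 1, 1, 1, 1, 3, 1, -1, -1, 1, 3, 1],
    [1, 1, 1, -1, 3, -1, 3, -1, -1, 3, -1, -1, -3, -1, -1, -1, -1, -3, -1, 1, 1, -1, 1, -1],
    [1, 1, 1, 3, -1, -1, -1, 3, -1, 3, -1, -1, 1, -1, -1, -1, 3, 1, 3, 1, 1, -1, 1, -1],
    [-1, -1, -1, 1, 1, 1, 1, 1, -3, -3, 1, 1, -1, 1, -3, 1, 1, -1, 1, 3, -1, 1, 3, 1],
    [1, 1, 1, -1, -1, 3, 3, -1, -1, -1, -1, -1, 1, -1, -1, -1, -1, 1, 3, 1, -3, -1, -3, -1],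
    [-1, -1, 3, 1, -3, 1, 1, 1, 1, 1, 1, 1, -1, -3, 1, 1, -3, -1, 1, -1, -1, 1, 3, 1],
    [-1, -1, 3, 1, 1, 1, 1, 1, -3, 1, 1, -3, 3, 1, 1, 1, 1, -1, -3, -1, -1, 1, -1, 1],
    [-1, -1, -1, 1, 1, 1, 1, 1, 1, 1, 1, 1, -1, -3, 1, -3, 1, 3, -3, 3, -1, 1, -1, 1],
    [-1, -1, -1, 1, -3, 1, 1, 1, 1, 1, -3, 1, -1, 1, -3, 1, 1, -1, -3, -1, -1, -3, -1, 1],
    [1, 1, -3, -1, -1, -1, -1, -1, -1, 3, 3, -1, 1, -1, -1, 3, -1, 1, -1, 1, -3, -1, 1, -1],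
    [-1, -1, 3, 1, 1, 1, -3, -3, 1, 1, 1, 1, -1, 1, 1, 1, 1, -1, 1, 3, -1, -3, -1, 1],
    [-1, -1, -1, 1, 1, 1, -3, 1, 1, 1, 1, -3, -1, 1, -3, -3, -3, -1, 1, -1, -1, 1, -1, 1],
    [3, 3, -1, 1, 1, 1, 1, 1, 1, 1, 1, 1, -1, 1, 1, 1, 1, -1, 1, -1, -1, 1, -1, 5]] : List (List ℤ)).getD i []).getD j 0

theorem check_data : check mX mZ = true := by decide +kernel

end CL.U4.CO1all
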